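import Groth.Agent.FamConst.Split
import Groth.Agent.H23.LocNoethTop
import Groth.Agent.Pi1X.GaloisExact
import Groth.Agent.Pi1X.GaloisFunctorial
import Groth.Prelude.Def_PiSp

/-! Topological generation of the fundamental group. -/

set_option autoImplicit false
set_option linter.style.haveILetI false
set_option backward.isDefEq.respectTransparency false
set_option backward.isDefEq.respectTransparency.types false
universe u

open CategoryTheory CategoryTheory.Limits AlgebraicGeometry TopologicalSpace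

noncomputable section

namespace Groth.Agent.PiGen

variable {S : Scheme.{u}}

theorem isConnected_of_connectedSpace (A : FEt.Cat S) [ConnectedSpace S] [ConnectedSpace A.left] :
    PreGaloisCategory.IsConnected A := by
  haveI := Pi1X.galoisCategory (S := S)
  obtain ⟨x⟩ := (inferInstance : Nonempty A.left)
  refine ⟨fun h => ?_, fun B i _ hB => ?_⟩
  · let m := (h.to (Pi1X.emptyCover S)).left
    haveI : IsEmpty ↥(Pi1X.emptyCover S).left := inferInstanceAs (IsEmpty ↥(⊥_ Scheme.{u}))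
    exact isEmptyElim (m x)
  · haveI hne : Nonempty B.left := by
      by_contra hne
      rw [not_nonempty_iff] at hne
      exact hB (IsInitial.ofUniqueHom
        (fun Y => MorphismProperty.Over.homMk (isInitialOfIsEmpty.to Y.left) (isInitialOfIsEmpty.hom_ext _ _))
        fun _ _ => MorphismProperty.Over.Hom.ext (isInitialOfIsEmpty.hom_ext _ _))
    have hsurj : Function.Surjective i.left :=
      Set.range_eq_univ.1 (IsClopen.eq_univ (Pi1X.isClopen_range (Pi1X.prop_left i)) (Set.range_nonempty _))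
    haveI : IsFinite i.left := (Pi1X.prop_left i).1
    haveI : Etale i.left := (Pi1X.prop_left i).2
    obtain ⟨Ω, _, _, ξ, hξ⟩ := Pi1X.exists_geometric_point (S := S) (A.hom x)
    refine Pi1X.isIso_of_bijective ξ i ⟨?_, ?_⟩
    · exact Pi1X.Functorial.injective_of_mono (Pi1X.fiberFin ξ) i
    · rintro ⟨a, ha⟩
      obtain ⟨w, hw⟩ := hsurj (a (IsLocalRing.closedPoint Ω))
      obtain ⟨⟨b, hb⟩, -⟩ := Pi1X.exists_lift_at a i.left w hw
      exact ⟨⟨b, by rw [← MorphismProperty.Over.w i, ← Category.assoc, hb, ha]⟩, Subtype.ext hb⟩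

theorem exists_smul_eq [ConnectedSpace S] {Ω : Type u} [Field Ω] [IsSepClosed Ω]
    (ξ : Spec (CommRingCat.of Ω) ⟶ S) (A : FEt.Cat S) [ConnectedSpace A.left] (x y : FEt.fiberObj ξ A) :
    ∃ σ : FEt.piOne S ξ, σ.hom.app A x = y := by
  haveI := Pi1X.galoisCategory (S := S)
  haveI := isConnected_of_connectedSpace A
  obtain ⟨σ, hσ⟩ := MulAction.exists_smul_eq (Aut (Pi1X.fiberFin ξ)) (α := (Pi1X.fiberFin ξ).obj A) x y
  exact ⟨Functor.isoWhiskerRight σ FintypeCat.incl, hσ⟩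

theorem exists_dominating_finset [ConnectedSpace S] {Ω : Type u} [Field Ω] [IsSepClosed Ω]
    (ξ : Spec (CommRingCat.of Ω) ⟶ S) (s : Finset (FEt.Cat S)) :
    ∃ (A : FEt.Cat S) (a : FEt.fiberObj ξ A), ConnectedSpace A.left ∧
      ∀ Z ∈ s, ∀ x : FEt.fiberObj ξ Z, ∃ f : A ⟶ Z, (FEt.fiber ξ).map f a = x := by
  classical
  haveI := Pi1X.galoisCategory (S := S)
  let F := Pi1X.fiberFin ξ
  suffices h : ∃ (A : FEt.Cat S) (a : F.obj A), PreGaloisCategory.IsConnected A ∧
      ∀ Z ∈ s, ∀ x : F.obj Z, ∃ f : A ⟶ Z, F.map f a = x by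
    obtain ⟨A, a, hA, h⟩ := h
    haveI : Nonempty A.left := ⟨a.1 (IsLocalRing.closedPoint Ω)⟩
    exact ⟨A, a, FamConst.connectedSpace_left A, fun Z hZ x => h Z hZ x⟩
  induction s using Finset.induction with
  | empty =>
    obtain ⟨t⟩ := Pi1X.Exact.fiber_terminal_nonempty F
    exact ⟨⊤_ _, t, Pi1X.Exact.isConnected_terminal, fun Z hZ => absurd hZ (Finset.notMem_empty Z)⟩
  | insert Z s _ ih =>
    obtain ⟨A, a, hA, ha⟩ := ih
    obtain ⟨A', a', hA', hbij⟩ := PreGaloisCategory.exists_galois_representative F Z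
    obtain ⟨B, i, b, hb, hB, -⟩ := PreGaloisCategory.fiber_in_connected_component F (A ⨯ A')
      ((PreGaloisCategory.fiberBinaryProductEquiv F A A').symm (a, a'))
    refine ⟨B, b, hB, fun W hW x => ?_⟩
    rcases Finset.mem_insert.1 hW with rfl | hW
    · obtain ⟨f, hf⟩ := hbij.2 x
      refine ⟨i ≫ prod.snd ≫ f, ?_⟩
      rw [F.map_comp, F.map_comp, FintypeCat.comp_apply, FintypeCat.comp_apply, hb,
        PreGaloisCategory.fiberBinaryProductEquiv_symm_snd_apply]
      exact hf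
    · obtain ⟨f, hf⟩ := ha W hW x
      refine ⟨i ≫ prod.fst ≫ f, ?_⟩
      rw [F.map_comp, F.map_comp, FintypeCat.comp_apply, FintypeCat.comp_apply, hb,
        PreGaloisCategory.fiberBinaryProductEquiv_symm_fst_apply]
      exact hf

theorem naturality_apply {C : Type*} [Category C] {F G : C ⥤ Type u} (η : F ⟶ G) {X Y : C} (f : X ⟶ Y)
    (x : F.obj X) : η.app Y (F.map f x) = G.map f (η.app X x) :=
  ConcreteCategory.congr_hom (η.naturality f) x

theorem topGenerates_of_transitive [ConnectedSpace S] {Ω : Type u} [Field Ω] [IsSepClosed Ω]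
    {ξ : Spec (CommRingCat.of Ω) ⟶ S} (F : Set (FEt.piOne S ξ))
    (h : ∀ (A : FEt.Cat S), ConnectedSpace A.left → ∀ x y : FEt.fiberObj ξ A,
      ∃ τ ∈ Subgroup.closure F, τ.hom.app A x = y) : PiSp.TopGenerates F := by
  rw [PiSp.TopGenerates, dense_iff_inter_open]
  rintro _ ⟨t, ht, rfl⟩ ⟨σ, hσ⟩
  letI (Z : FEt.Cat S) : TopologicalSpace (FEt.fiberObj ξ Z → FEt.fiberObj ξ Z) := ⊥
  let ev (τ : FEt.piOne S ξ) : (Z : FEt.Cat S) → FEt.fiberObj ξ Z → FEt.fiberObj ξ Z := fun Z s => τ.hom.app Z s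
  let t' : Set ((Z : FEt.Cat S) → FEt.fiberObj ξ Z → FEt.fiberObj ξ Z) := t
  have ht' : IsOpen t' := ht
  have hσ' : ev σ ∈ t' := hσ
  obtain ⟨I, u, hu, hsub⟩ := isOpen_pi_iff.1 ht' (ev σ) hσ'
  obtain ⟨A, a, hA, hdom⟩ := exists_dominating_finset ξ I
  obtain ⟨τ, hτ, hτa⟩ := h A hA a (σ.hom.app A a)
  refine ⟨τ, ?_, hτ⟩
  refine hsub fun Z hZ => ?_
  have : ev τ Z = ev σ Z := by
    funext x
    obtain ⟨f, rfl⟩ := hdom Z hZ x
    exact ((naturality_apply τ.hom f a).trans (congrArg _ hτa)).trans (naturality_apply σ.hom f a).symm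
  show ev τ Z ∈ u Z
  rw [this]
  exact (hu Z hZ).2

/-- A dense subgroup preserving a set of points of a fibre: the whole group preserves it. -/
theorem preserves_of_topGenerates {Ω : Type u} [Field Ω] {ξ : Spec (CommRingCat.of Ω) ⟶ S}
    {F : Set (FEt.piOne S ξ)} (hF : PiSp.TopGenerates F) (A : FEt.Cat S) (O : Set (FEt.fiberObj ξ A))
    (hO : ∀ τ ∈ F, ∀ x, x ∈ O ↔ τ.hom.app A x ∈ O) (σ : FEt.piOne S ξ) (x : FEt.fiberObj ξ A) :
    x ∈ O ↔ σ.hom.app A x ∈ O := by
  have hcl : ∀ τ ∈ Subgroup.closure F, ∀ x, x ∈ O ↔ τ.hom.app A x ∈ O := by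
    intro τ hτ
    induction hτ using Subgroup.closure_induction with
    | mem τ hτ => exact hO τ hτ
    | one => exact fun _ => Iff.rfl
    | mul τ τ' _ _ h h' => exact fun x => (h' x).trans (h _)
    | inv τ _ h =>
      intro x
      have hx : τ.hom.app A (τ.inv.app A x) = x :=
        ConcreteCategory.congr_hom (τ.inv_hom_id_app A) x
      refine Iff.trans ?_ (h (τ.inv.app A x)).symm
      exact (congrArg (· ∈ O) hx).to_iff.symm
  letI (Z : FEt.Cat S) : TopologicalSpace (FEt.fiberObj ξ Z → FEt.fiberObj ξ Z) := ⊥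
  let ev (τ : FEt.piOne S ξ) : FEt.fiberObj ξ A → FEt.fiberObj ξ A := fun s => τ.hom.app A s
  have hopen : IsOpen (ev ⁻¹' {ev σ}) := by
    haveI : DiscreteTopology (FEt.fiberObj ξ A → FEt.fiberObj ξ A) := ⟨rfl⟩
    refine ⟨(fun w : (Z : FEt.Cat S) → FEt.fiberObj ξ Z → FEt.fiberObj ξ Z => w A) ⁻¹' {ev σ}, ?_, rfl⟩
    exact (isOpen_discrete ({ev σ} : Set (FEt.fiberObj ξ A → FEt.fiberObj ξ A))).preimage
      (continuous_apply (A := fun Z : FEt.Cat S => FEt.fiberObj ξ Z → FEt.fiberObj ξ Z) A)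
  obtain ⟨τ, hτ, hτ'⟩ := hF.inter_open_nonempty _ hopen ⟨σ, rfl⟩
  have := congrFun (hτ : ev τ = ev σ) x
  rw [show σ.hom.app A x = τ.hom.app A x from this.symm]
  exact hcl τ hτ' x

theorem connectedComponent_mem_iff [ConnectedSpace S] [IsLocallyNoetherian S] {Ω : Type u} [Field Ω] [IsSepClosed Ω]
    {ξ : Spec (CommRingCat.of Ω) ⟶ S} (A : FEt.Cat S) (O : Set (FEt.fiberObj ξ A))
    (hO : ∀ (σ : FEt.piOne S ξ) (x : FEt.fiberObj ξ A), x ∈ O ↔ σ.hom.app A x ∈ O) :
    ∃ D : Set A.left, IsClopen D ∧ ∀ (Ω' : Type u) [Field Ω'] [IsSepClosed Ω']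
      (ξ' : Spec (CommRingCat.of Ω') ⟶ S) (ψ : FEt.fiber ξ ≅ FEt.fiber ξ') (x : FEt.fiberObj ξ A),
      x ∈ O ↔ (ψ.hom.app A x).1 (IsLocalRing.closedPoint Ω') ∈ D := by
  haveI := Pi1X.galoisCategory (S := S)
  haveI : IsFinite A.hom := A.prop.1
  haveI : IsLocallyNoetherian ((Functor.fromPUnit S).obj A.right) := ‹_›
  haveI : IsLocallyNoetherian A.left := LocallyOfFiniteType.isLocallyNoetherian A.hom
  haveI : LocallyConnectedSpace A.left := H23.LocNoethTop.locallyConnectedSpace fun x => by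
    obtain ⟨W, hW, hxW, -⟩ := exists_isAffineOpen_mem_and_subset (x := x) (U := (⊤ : A.left.Opens)) trivial
    haveI := IsLocallyNoetherian.component_noetherian (⟨W, hW⟩ : A.left.affineOpens)
    exact ⟨W, W.isOpen.mem_nhds hxW, noetherianSpace_of_isAffineOpen W hW⟩
  let pt : ∀ {Ω' : Type u} [Field Ω'] {ξ' : Spec (CommRingCat.of Ω') ⟶ S}, FEt.fiberObj ξ' A → A.left :=
    fun {Ω'} _ {ξ'} x => x.1 (IsLocalRing.closedPoint Ω')
  let D : Set A.left := ⋃ x ∈ O, connectedComponent (pt x)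
  have hfin : O.Finite := by
    haveI : Finite (FEt.fiberObj ξ A) := Pi1X.fiber_finite ξ A
    exact Set.toFinite _
  have hD : IsClopen D := hfin.isClopen_biUnion fun _ _ => ⟨isClosed_connectedComponent, isOpen_connectedComponent⟩
  -- the component of a point
  have key : ∀ (x : FEt.fiberObj ξ A) (Ω' : Type u) [Field Ω'] [IsSepClosed Ω']
      (ξ' : Spec (CommRingCat.of Ω') ⟶ S) (ψ : FEt.fiber ξ ≅ FEt.fiber ξ'),
      pt (ψ.hom.app A x) ∈ connectedComponent (pt x) := by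
    intro x Ω' _ _ ξ' ψ
    let U : A.left.Opens := ⟨connectedComponent (pt x), isOpen_connectedComponent⟩
    let B : FEt.Cat S := MorphismProperty.Over.mk ⊤ (U.ι ≫ A.hom)
      (MorphismProperty.comp_mem _ _ _ (Pi1X.prop_ι_of_isClopen U isClosed_connectedComponent) A.prop)
    let i : B ⟶ A := MorphismProperty.Over.homMk U.ι rfl trivial
    obtain ⟨b, hb, hb'⟩ := Pi1X.exists_factor ξ U.ι A.hom x.1 x.2
      (by rw [Scheme.Opens.range_ι]; exact mem_connectedComponent)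
    have hbx : (FEt.fiber ξ).map i ⟨b, hb⟩ = x := Subtype.ext hb'
    rw [← hbx, naturality_apply ψ.hom i]
    show U.ι ((ψ.hom.app B ⟨b, hb⟩).1 (IsLocalRing.closedPoint Ω')) ∈ connectedComponent (pt ((FEt.fiber ξ).map i ⟨b, hb⟩))
    rw [hbx]
    exact ((ψ.hom.app B ⟨b, hb⟩).1 (IsLocalRing.closedPoint Ω') : U.toScheme).2
  refine ⟨D, hD, fun Ω' _ _ ξ' ψ x => ⟨fun hx => Set.mem_biUnion hx (key x Ω' ξ' ψ), fun hx => ?_⟩⟩
  obtain ⟨x', hx', hmem⟩ := Set.mem_iUnion₂.1 hx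
  have h1 : pt x ∈ connectedComponent (pt x') := by
    rw [connectedComponent_eq hmem, ← connectedComponent_eq (key x Ω' ξ' ψ)]
    exact mem_connectedComponent
  let U : A.left.Opens := ⟨connectedComponent (pt x'), isOpen_connectedComponent⟩
  let B : FEt.Cat S := MorphismProperty.Over.mk ⊤ (U.ι ≫ A.hom)
    (MorphismProperty.comp_mem _ _ _ (Pi1X.prop_ι_of_isClopen U isClosed_connectedComponent) A.prop)
  haveI : ConnectedSpace B.left := isConnected_iff_connectedSpace.1 isConnected_connectedComponent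
  let i : B ⟶ A := MorphismProperty.Over.homMk U.ι rfl trivial
  obtain ⟨b, hb, hb'⟩ := Pi1X.exists_factor ξ U.ι A.hom x.1 x.2 (by rw [Scheme.Opens.range_ι]; exact h1)
  obtain ⟨b₁, hb₁, hb₁'⟩ := Pi1X.exists_factor ξ U.ι A.hom x'.1 x'.2
    (by rw [Scheme.Opens.range_ι]; exact mem_connectedComponent)
  obtain ⟨σ, hσ⟩ := exists_smul_eq ξ B ⟨b₁, hb₁⟩ ⟨b, hb⟩
  have he : σ.hom.app A x' = x := by
    rw [← show (FEt.fiber ξ).map i ⟨b₁, hb₁⟩ = x' from Subtype.ext hb₁', naturality_apply σ.hom i, hσ]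
    exact Subtype.ext hb'
  rw [← he]
  exact (hO σ x').1 hx'

end Groth.Agent.PiGen
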