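import Groth.Agent.PiGen.Basic
import Groth.Agent.Pi1X.GaloisUnique
import Mathlib.AlgebraicGeometry.Morphisms.Proper

/-! Generators of the fundamental group through a proper surjective morphism. -/

set_option autoImplicit false
set_option linter.style.haveILetI false
set_option backward.isDefEq.respectTransparency false
set_option backward.isDefEq.respectTransparency.types false
universe u

open CategoryTheory CategoryTheory.Limits AlgebraicGeometry TopologicalSpace

noncomputable section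
set_option maxHeartbeats 1600000

namespace Groth.Agent.PiGen

/-- The open connected components. -/
abbrev Comp (X : Scheme.{u}) : Type u := {C : X.Opens // IsClosed (C : Set X) ∧ ConnectedSpace C}

theorem Comp.eq_of_mem {X : Scheme.{u}} {C C' : Comp X} {x : X} (h : x ∈ C.1) (h' : x ∈ C'.1) : C = C' := by
  have hsub : ∀ A B : Comp X, x ∈ A.1 → x ∈ B.1 → (A.1 : Set X) ⊆ B.1 := fun A B hA hB =>
    (isConnected_iff_connectedSpace.2 A.2.2).isPreconnected.subset_isClopen ⟨B.2.1, B.1.isOpen⟩ ⟨_, hA, hB⟩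
  exact Subtype.ext (TopologicalSpace.Opens.ext (Set.Subset.antisymm (hsub C C' h h') (hsub C' C h' h)))

instance finite_comp (X : Scheme.{u}) [IsNoetherian X] : Finite (Comp X) := by
  haveI : Finite (irreducibleComponents X) :=
    TopologicalSpace.NoetherianSpace.finite_irreducibleComponents.to_subtype
  refine Finite.of_injective (fun C : Comp X => {Z : irreducibleComponents X | (Z.1 : Set X) ⊆ C.1}) fun C C' h => ?_
  obtain ⟨x⟩ : Nonempty C.1 := C.2.2.toNonempty
  have hx : (⟨irreducibleComponent x.1, irreducibleComponent_mem_irreducibleComponents x.1⟩ : irreducibleComponents X) ∈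
      {Z : irreducibleComponents X | (Z.1 : Set X) ⊆ C.1} :=
    isIrreducible_irreducibleComponent.isConnected.isPreconnected.subset_isClopen ⟨C.2.1, C.1.isOpen⟩
      ⟨x.1, mem_irreducibleComponent, x.2⟩
  simp only at h
  rw [h] at hx
  exact Comp.eq_of_mem x.2 (hx mem_irreducibleComponent)

theorem Comp.exists_mem {X : Scheme.{u}} [IsLocallyNoetherian X] (x : X) : ∃ C : Comp X, x ∈ C.1 := by
  haveI : LocallyConnectedSpace X := H23.LocNoethTop.locallyConnectedSpace fun x => by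
    obtain ⟨W, hW, hxW, -⟩ := exists_isAffineOpen_mem_and_subset (x := x) (U := (⊤ : X.Opens)) trivial
    haveI := IsLocallyNoetherian.component_noetherian (⟨W, hW⟩ : X.affineOpens)
    exact ⟨W, W.isOpen.mem_nhds hxW, noetherianSpace_of_isAffineOpen W hW⟩
  exact ⟨⟨⟨connectedComponent x, isOpen_connectedComponent⟩, isClosed_connectedComponent,
    isConnected_iff_connectedSpace.1 isConnected_connectedComponent⟩, mem_connectedComponent⟩

/-- Fibres of a restriction at a given point. -/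
def fibIso {X S : Scheme.{u}} (f : X ⟶ S) {Ω : Type u} [Field Ω] (η : Spec (CommRingCat.of Ω) ⟶ X)
    (ζ : Spec (CommRingCat.of Ω) ⟶ S) (h : η ≫ f = ζ) : FEt.restrict f ⋙ FEt.fiber η ≅ FEt.fiber ζ :=
  h ▸ Pi1X.restrictFiberIso f η

theorem fibIso_inv_val {X S : Scheme.{u}} (f : X ⟶ S) {Ω : Type u} [Field Ω] (η : Spec (CommRingCat.of Ω) ⟶ X)
    (ζ : Spec (CommRingCat.of Ω) ⟶ S) (h : η ≫ f = ζ) (A : FEt.Cat S) (u : FEt.fiberObj ζ A) :
    ((fibIso f η ζ h).inv.app A u).1 = pullback.lift u.1 η (u.2.trans h.symm) := by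
  subst h
  rfl

theorem inv_hom_apply {C : Type*} [Category C] {F G : C ⥤ Type u} (e : F ≅ G) (X : C) (x : F.obj X) :
    e.inv.app X (e.hom.app X x) = x :=
  ConcreteCategory.congr_hom (e.hom_inv_id_app X) x

theorem hom_inv_apply {C : Type*} [Category C] {F G : C ⥤ Type u} (e : F ≅ G) (X : C) (x : G.obj X) :
    e.hom.app X (e.inv.app X x) = x :=
  ConcreteCategory.congr_hom (e.inv_hom_id_app X) x

theorem exists_generators {S S' : Scheme.{u}} [IsNoetherian S] [ConnectedSpace S] (g : S' ⟶ S) [IsProper g]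
    [Surjective g]
    (hfg : ∀ (C : S'.Opens), IsClosed (C : Set S') → ConnectedSpace C →
      ∀ (Ω : Type u) [Field Ω] [IsAlgClosed Ω] (η : Spec (CommRingCat.of Ω) ⟶ (C : Scheme.{u})),
        ∃ F : Finset (FEt.piOne (C : Scheme.{u}) η), PiSp.TopGenerates (F : Set (FEt.piOne (C : Scheme.{u}) η)))
    {Ω : Type u} [Field Ω] [IsAlgClosed Ω] (ξ : Spec (CommRingCat.of Ω) ⟶ S) :
    ∃ F : Finset (FEt.piOne S ξ), PiSp.TopGenerates (F : Set (FEt.piOne S ξ)) := by
  classical
  haveI : IsLocallyNoetherian S' := LocallyOfFiniteType.isLocallyNoetherian g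
  haveI : CompactSpace S' := QuasiCompact.compactSpace_of_compactSpace g
  haveI : IsNoetherian S' := {}
  let p₀ := pullback.fst g g
  let p₁ := pullback.snd g g
  haveI : LocallyOfFiniteType p₀ := MorphismProperty.pullback_fst _ _ inferInstance
  haveI : QuasiCompact p₀ := MorphismProperty.pullback_fst _ _ inferInstance
  haveI : IsLocallyNoetherian (pullback g g) := LocallyOfFiniteType.isLocallyNoetherian p₀
  haveI : CompactSpace ↥(pullback g g) := QuasiCompact.compactSpace_of_compactSpace p₀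
  haveI : IsNoetherian (pullback g g) := {}
  -- base points of the components
  have hpt : ∀ C : Comp S', ∃ (Ω' : Type u) (_ : Field Ω') (_ : IsAlgClosed Ω')
      (η : Spec (CommRingCat.of Ω') ⟶ (C.1 : Scheme.{u})), True := fun C => by
    haveI := C.2.2
    obtain ⟨x⟩ := (inferInstance : Nonempty C.1)
    obtain ⟨Ω', h1, h2, η, -⟩ := Pi1X.exists_geometric_point (S := (C.1 : Scheme.{u})) x
    exact ⟨Ω', h1, h2, η, trivial⟩
  choose K hKf hKa η _ using hpt
  have hgen := fun C : Comp S' => hfg C.1 C.2.1 C.2.2 (K C) (η C)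
  choose G hG using hgen
  have hiso : ∀ C : Comp S', Nonempty (FEt.restrict (C.1.ι ≫ g) ⋙ FEt.fiber (η C) ≅ FEt.fiber ξ) := fun C => by
    obtain ⟨i⟩ := Pi1X.nonempty_fiber_iso (η C ≫ C.1.ι ≫ g) ξ
    exact ⟨Pi1X.restrictFiberIso (C.1.ι ≫ g) (η C) ≪≫ i⟩
  obtain ⟨e⟩ : Nonempty (∀ C : Comp S', FEt.restrict (C.1.ι ≫ g) ⋙ FEt.fiber (η C) ≅ FEt.fiber ξ) :=
    ⟨fun C => Classical.choice (hiso C)⟩
  let ρ : ∀ C : Comp S', FEt.piOne (C.1 : Scheme.{u}) (η C) → FEt.piOne S ξ := fun C σ =>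
    (e C).symm ≪≫ Functor.isoWhiskerLeft _ σ ≪≫ e C
  -- transport to an arbitrary geometric point of the cover
  have hloc : ∀ (Ω' : Type u) [Field Ω'] [IsAlgClosed Ω'] (δ : Spec (CommRingCat.of Ω') ⟶ S'),
      ∃ (C : Comp S') (δ' : Spec (CommRingCat.of Ω') ⟶ (C.1 : Scheme.{u})), δ' ≫ C.1.ι = δ := by
    intro Ω' _ _ δ
    obtain ⟨C, hC⟩ := Comp.exists_mem (δ (IsLocalRing.closedPoint Ω'))
    have hr : Set.range δ ⊆ Set.range C.1.ι := by
      rw [Scheme.Opens.range_ι]
      rintro _ ⟨p, rfl⟩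
      rw [Pi1X.eq_closedPoint p]
      exact hC
    exact ⟨C, IsOpenImmersion.lift C.1.ι δ hr, IsOpenImmersion.lift_fac _ _ _⟩
  choose cmp dlt hdlt using hloc
  have htr : ∀ (Ω' : Type u) [Field Ω'] [IsAlgClosed Ω'] (δ : Spec (CommRingCat.of Ω') ⟶ S')
      (ζ : Spec (CommRingCat.of Ω') ⟶ S) (h : δ ≫ g = ζ), ∃ T : FEt.fiber ξ ≅ FEt.fiber ζ,
      ∀ (A : FEt.Cat S) (u : FEt.fiberObj ζ A), ∃ (ψ : FEt.fiber (η (cmp Ω' δ)) ≅ FEt.fiber (dlt Ω' δ))
        (v : FEt.fiberObj (dlt Ω' δ) ((FEt.restrict ((cmp Ω' δ).1.ι ≫ g)).obj A)),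
        v.1 = pullback.lift u.1 (dlt Ω' δ) (u.2.trans (by rw [← Category.assoc, hdlt, h])) ∧
        T.inv.app A u = (e (cmp Ω' δ)).hom.app A (ψ.inv.app _ v) := fun Ω' _ _ δ ζ h => by
    haveI := (cmp Ω' δ).2.2
    obtain ⟨ψ⟩ := Pi1X.nonempty_fiber_iso (η (cmp Ω' δ)) (dlt Ω' δ)
    exact ⟨(e (cmp Ω' δ)).symm ≪≫ Functor.isoWhiskerLeft _ ψ ≪≫
      fibIso ((cmp Ω' δ).1.ι ≫ g) (dlt Ω' δ) ζ (by rw [← Category.assoc, hdlt, h]), fun A u =>
        ⟨ψ, _, fibIso_inv_val _ _ _ _ A u, rfl⟩⟩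
  choose a ha using htr
  -- base points of the components of the double product
  have hpt₂ : ∀ D : Comp (pullback g g), ∃ (Ω' : Type u) (_ : Field Ω') (_ : IsAlgClosed Ω')
      (δ : Spec (CommRingCat.of Ω') ⟶ pullback g g), δ (IsLocalRing.closedPoint Ω') ∈ D.1 := fun D => by
    haveI := D.2.2
    obtain ⟨x⟩ := (inferInstance : Nonempty D.1)
    obtain ⟨Ω', h1, h2, δ, hδ⟩ := Pi1X.exists_geometric_point (S := pullback g g) x.1
    exact ⟨Ω', h1, h2, δ, by rw [hδ]; exact x.2⟩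
  choose L hLf hLa δ₂ hδ₂ using hpt₂
  have hζ₁ : ∀ D, (δ₂ D ≫ p₁) ≫ g = (δ₂ D ≫ p₀) ≫ g := fun D => by
    simp only [Category.assoc, p₀, p₁, pullback.condition]
  let path : Comp (pullback g g) → FEt.piOne S ξ := fun D =>
    a (L D) (δ₂ D ≫ p₀) _ rfl ≪≫ (a (L D) (δ₂ D ≫ p₁) _ (hζ₁ D)).symm
  haveI := Fintype.ofFinite (Comp S')
  haveI := Fintype.ofFinite (Comp (pullback g g))
  let F : Finset (FEt.piOne S ξ) :=
    (Finset.univ : Finset (Comp S')).biUnion (fun C => (G C).image (ρ C)) ∪ Finset.univ.image path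
  refine ⟨F, topGenerates_of_transitive _ fun A hA x y => ?_⟩
  let O : Set (FEt.fiberObj ξ A) := {z | ∃ τ ∈ Subgroup.closure (F : Set (FEt.piOne S ξ)), τ.hom.app A x = z}
  suffices hy : y ∈ O from hy
  have hO : ∀ τ ∈ Subgroup.closure (F : Set (FEt.piOne S ξ)), ∀ z, z ∈ O ↔ τ.hom.app A z ∈ O := by
    intro τ hτ z
    constructor
    · rintro ⟨τ', hτ', rfl⟩
      exact ⟨τ * τ', mul_mem hτ hτ', rfl⟩
    · rintro ⟨τ', hτ', hz⟩
      refine ⟨τ⁻¹ * τ', mul_mem (inv_mem hτ) hτ', ?_⟩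
      show τ.inv.app A (τ'.hom.app A x) = z
      rw [hz]
      exact inv_hom_apply τ A z
  have hT : ∀ C : Comp S', ∃ D : Set ↥((FEt.restrict (C.1.ι ≫ g)).obj A).left, IsClopen D ∧
      ∀ (Ω' : Type u) [Field Ω'] [IsSepClosed Ω'] (η' : Spec (CommRingCat.of Ω') ⟶ (C.1 : Scheme.{u}))
        (ψ : FEt.fiber (η C) ≅ FEt.fiber η') (w : FEt.fiberObj (η C) ((FEt.restrict (C.1.ι ≫ g)).obj A)),
        (e C).hom.app A w ∈ O ↔ (ψ.hom.app _ w).1 (IsLocalRing.closedPoint Ω') ∈ D := fun C => by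
    haveI := C.2.2
    refine connectedComponent_mem_iff _ {w | (e C).hom.app A w ∈ O} fun σ w => ?_
    refine preserves_of_topGenerates (hG C) _ {w | (e C).hom.app A w ∈ O} (fun τ hτ w => ?_) σ w
    have hρ : ρ C τ ∈ Subgroup.closure (F : Set (FEt.piOne S ξ)) := Subgroup.subset_closure
      (Finset.mem_union_left _ (Finset.mem_biUnion.2 ⟨C, Finset.mem_univ _, Finset.mem_image_of_mem _ hτ⟩))
    have h1 : (ρ C τ).hom.app A ((e C).hom.app A w) = (e C).hom.app A (τ.hom.app _ w) :=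
      congrArg (fun v => (e C).hom.app A (τ.hom.app _ v)) (inv_hom_apply (e C) A w)
    show (e C).hom.app A w ∈ O ↔ (e C).hom.app A (τ.hom.app _ w) ∈ O
    rw [← h1]
    exact hO _ hρ _
  choose D hD hDmem using hT
  let a' : A.left ⟶ S := A.hom
  let Y' := pullback a' g
  let k : ∀ C : Comp S', pullback a' (C.1.ι ≫ g) ⟶ Y' := fun C =>
    pullback.lift (pullback.fst _ _) (pullback.snd _ _ ≫ C.1.ι) (by rw [pullback.condition, Category.assoc])
  have hk : ∀ C, IsOpenImmersion (k C) := fun C => by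
    have h : IsPullback (pullback.snd a' (C.1.ι ≫ g)) (k C) C.1.ι (pullback.snd a' g) := by
      refine (IsPullback.of_right ?_ (pullback.lift_snd _ _ _) (IsPullback.of_hasPullback a' g)).flip
      rw [pullback.lift_fst]
      exact IsPullback.of_hasPullback _ _
    exact MorphismProperty.of_isPullback (P := @IsOpenImmersion) h inferInstance
  let Dset : Set Y' := ⋃ C, k C '' (D C)
  have hDopen : IsOpen Dset := isOpen_iUnion fun C => haveI := hk C; (k C).isOpenEmbedding.isOpenMap _ (hD C).2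
  have hk₂ : ∀ C w, pullback.snd a' g (k C w) ∈ C.1 := fun C w => by
    have h : pullback.snd a' g (k C w) = (k C ≫ pullback.snd a' g) w := rfl
    rw [h, pullback.lift_snd]
    exact (pullback.snd a' (C.1.ι ≫ g) w).2
  have hmemk : ∀ C w, k C w ∈ Dset ↔ w ∈ D C := by
    intro C w
    refine ⟨fun h => ?_, fun h => Set.mem_iUnion.2 ⟨C, w, h, rfl⟩⟩
    obtain ⟨C', w', hw', he⟩ := Set.mem_iUnion.1 h
    obtain rfl : C' = C := Comp.eq_of_mem (hk₂ C' w') (he ▸ hk₂ C w)
    haveI := hk C'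
    rwa [← (k C').isOpenEmbedding.injective he]
  -- membership in terms of transports
  have memb : ∀ (Ω' : Type u) [Field Ω'] [IsAlgClosed Ω'] (δ : Spec (CommRingCat.of Ω') ⟶ S')
      (ζ : Spec (CommRingCat.of Ω') ⟶ S) (h : δ ≫ g = ζ) (u : FEt.fiberObj ζ A),
      pullback.lift (f := a') (g := g) u.1 δ (u.2.trans h.symm) (IsLocalRing.closedPoint Ω') ∈ Dset ↔
        (a Ω' δ ζ h).inv.app A u ∈ O := by
    intro Ω' _ _ δ ζ h u
    obtain ⟨ψ, v, h3, hT⟩ := ha Ω' δ ζ h A u
    let C := cmp Ω' δ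
    let j := C.1.ι ≫ g
    let w := ψ.inv.app ((FEt.restrict j).obj A) v
    have h1 := hDmem C Ω' (dlt Ω' δ) ψ w
    have h2 : ψ.hom.app ((FEt.restrict j).obj A) w = v := hom_inv_apply ψ ((FEt.restrict j).obj A) v
    rw [h2] at h1
    let l : Spec (CommRingCat.of Ω') ⟶ pullback a' (C.1.ι ≫ g) :=
      pullback.lift u.1 (dlt Ω' δ) (u.2.trans (by rw [← Category.assoc, hdlt, h]))
    have h4 : pullback.lift (f := a') (g := g) u.1 δ (u.2.trans h.symm) = l ≫ k C := by
      apply pullback.hom_ext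
      · simp only [k, l, Category.assoc, pullback.lift_fst]
      · simp only [k, l, Category.assoc, pullback.lift_snd, pullback.lift_snd_assoc]
        exact (hdlt Ω' δ).symm
    have h5 : v.1 (IsLocalRing.closedPoint Ω') = l (IsLocalRing.closedPoint Ω') := by rw [h3]; rfl
    rw [h5] at h1
    rw [h4, Scheme.Hom.comp_apply, hmemk, hT]
    exact h1.symm
  have hDclosed : IsClosed Dset := by
    rw [← isOpen_compl_iff]
    have : Dsetᶜ = ⋃ C, k C '' (D C)ᶜ := by
      ext z
      constructor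
      · intro hz
        obtain ⟨Ω', _, _, ζ, hζ⟩ := Pi1X.exists_geometric_point (S := Y') z
        obtain ⟨C, d, hd⟩ : ∃ (C : Comp S') (d : Spec (CommRingCat.of Ω') ⟶ (C.1 : Scheme.{u})),
            d ≫ C.1.ι = ζ ≫ pullback.snd a' g := ⟨_, _, hdlt Ω' (ζ ≫ pullback.snd a' g)⟩
        let l : Spec (CommRingCat.of Ω') ⟶ pullback a' (C.1.ι ≫ g) := pullback.lift (ζ ≫ pullback.fst a' g) d (by
          rw [Category.assoc, pullback.condition, ← Category.assoc d, hd, Category.assoc])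
        have hl : l ≫ k C = ζ := by
          apply pullback.hom_ext
          · simp only [k, l, Category.assoc, pullback.lift_fst]
          · simp only [k, l, Category.assoc, pullback.lift_snd, pullback.lift_snd_assoc, hd]
        have hz' : k C (l (IsLocalRing.closedPoint Ω')) = z := by
          rw [← hζ, ← Scheme.Hom.comp_apply, hl]
        refine Set.mem_iUnion.2 ⟨C, _, fun h' => hz ?_, hz'⟩
        rw [← hz', hmemk]
        exact h'
      · intro hz
        obtain ⟨C, w, hw, rfl⟩ := Set.mem_iUnion.1 hz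
        exact fun h => hw ((hmemk C w).1 h)
    rw [this]
    exact isOpen_iUnion fun C => haveI := hk C; (k C).isOpenEmbedding.isOpenMap _ (hD C).compl.2
  -- agreement over the double product
  let c := pullback g g
  let Y'' := pullback a' (p₀ ≫ g)
  let q₀ : Y'' ⟶ Y' := pullback.lift (pullback.fst _ _) (pullback.snd _ _ ≫ p₀) (by rw [pullback.condition, Category.assoc])
  let q₁ : Y'' ⟶ Y' := pullback.lift (pullback.fst _ _) (pullback.snd _ _ ≫ p₁)
    (by simp only [pullback.condition, Category.assoc, p₀, p₁])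
  haveI : IsFinite a' := A.prop.1
  haveI : Etale a' := A.prop.2
  have hsame : q₀ ⁻¹' Dset = q₁ ⁻¹' Dset := by
    have hc₀ : IsClopen (q₀ ⁻¹' Dset) := ⟨hDclosed.preimage q₀.continuous, hDopen.preimage q₀.continuous⟩
    have hc₁ : IsClopen (q₁ ⁻¹' Dset) := ⟨hDclosed.preimage q₁.continuous, hDopen.preimage q₁.continuous⟩
    let E := (q₀ ⁻¹' Dset \ q₁ ⁻¹' Dset) ∪ (q₁ ⁻¹' Dset \ q₀ ⁻¹' Dset)
    have hE : IsClopen E := (hc₀.diff hc₁).union (hc₁.diff hc₀)
    by_contra hne
    obtain ⟨z, hz⟩ : E.Nonempty := by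
      rw [Set.nonempty_iff_ne_empty]
      intro hE0
      refine hne (Set.ext fun z => ?_)
      have : z ∉ E := by rw [hE0]; exact Set.notMem_empty z
      simp only [E, Set.mem_union, Set.mem_sdiff, not_or, not_and, not_not] at this
      exact ⟨this.1, this.2⟩
    let π := pullback.snd a' (p₀ ≫ g)
    haveI : IsFinite π := MorphismProperty.pullback_snd _ _ inferInstance
    haveI : Etale π := MorphismProperty.pullback_snd _ _ inferInstance
    have hπE : IsClopen (π '' E) := ⟨π.isClosedMap _ hE.1, π.isOpenMap _ hE.2⟩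
    obtain ⟨P, hP⟩ := Comp.exists_mem (π z)
    have hPE : (P.1 : Set ↥(pullback g g)) ⊆ π '' E :=
      (isConnected_iff_connectedSpace.2 P.2.2).isPreconnected.subset_isClopen hπE ⟨_, hP, z, hz, rfl⟩
    obtain ⟨w, hw, hwδ⟩ := hPE (hδ₂ P)
    obtain ⟨⟨l, hl⟩, hl₀⟩ := Pi1X.exists_lift_at (δ₂ P) π w hwδ
    replace hl₀ : l (IsLocalRing.closedPoint (L P)) = w := hl₀
    let ζ := (δ₂ P ≫ p₀) ≫ g
    let u : FEt.fiberObj ζ A := ⟨l ≫ pullback.fst a' (p₀ ≫ g), by
      show (l ≫ pullback.fst a' (p₀ ≫ g)) ≫ a' = (δ₂ P ≫ p₀) ≫ g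
      rw [Category.assoc, pullback.condition (f := a') (g := p₀ ≫ g), ← Category.assoc l, hl, Category.assoc]⟩
    have h0 := memb (L P) (δ₂ P ≫ p₀) ζ rfl u
    have h1 := memb (L P) (δ₂ P ≫ p₁) ζ (hζ₁ P) u
    have e0 : pullback.lift (f := a') (g := g) u.1 (δ₂ P ≫ p₀) (u.2.trans rfl) = l ≫ q₀ := by
      apply pullback.hom_ext
      · simp only [q₀, u, Category.assoc, pullback.lift_fst]
      · simp only [q₀, Category.assoc, pullback.lift_snd]
        rw [← Category.assoc, hl]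
    have e1 : pullback.lift (f := a') (g := g) u.1 (δ₂ P ≫ p₁) (u.2.trans (hζ₁ P).symm) = l ≫ q₁ := by
      apply pullback.hom_ext
      · simp only [q₁, u, Category.assoc, pullback.lift_fst]
      · simp only [q₁, Category.assoc, pullback.lift_snd]
        rw [← Category.assoc, hl]
    rw [e0, Scheme.Hom.comp_apply, hl₀] at h0
    rw [e1, Scheme.Hom.comp_apply, hl₀] at h1
    have hpath : path P ∈ Subgroup.closure (F : Set (FEt.piOne S ξ)) :=
      Subgroup.subset_closure (Finset.mem_union_right _ (Finset.mem_image_of_mem _ (Finset.mem_univ P)))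
    have h01 : (path P).hom.app A ((a (L P) (δ₂ P ≫ p₀) ζ rfl).inv.app A u) =
        (a (L P) (δ₂ P ≫ p₁) ζ (hζ₁ P)).inv.app A u :=
      congrArg (fun v => (a (L P) (δ₂ P ≫ p₁) ζ (hζ₁ P)).inv.app A v) (hom_inv_apply (a (L P) (δ₂ P ≫ p₀) ζ rfl) A u)
    have hiff : w ∈ q₀ ⁻¹' Dset ↔ w ∈ q₁ ⁻¹' Dset := by
      refine h0.trans (((hO _ hpath _).trans ?_).trans h1.symm)
      rw [h01]
    rcases hw with ⟨h, h'⟩ | ⟨h, h'⟩
    · exact h' (hiff.1 h)
    · exact h' (hiff.2 h)
  let fA := pullback.fst a' g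
  have hsat : ∀ z z' : Y', fA z = fA z' → z ∈ Dset → z' ∈ Dset := by
    intro z z' hzz hz
    obtain ⟨w, hw, hw'⟩ := Scheme.Pullback.exists_preimage_pullback z z' hzz
    obtain ⟨Ω', _, _, ζ, hζ⟩ := Pi1X.exists_geometric_point (S := pullback fA fA) w
    let b : Spec (CommRingCat.of Ω') ⟶ pullback g g :=
      pullback.lift (ζ ≫ pullback.fst fA fA ≫ pullback.snd a' g) (ζ ≫ pullback.snd fA fA ≫ pullback.snd a' g) (by
        simp only [Category.assoc]
        rw [← pullback.condition, pullback.condition_assoc])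
    let l : Spec (CommRingCat.of Ω') ⟶ Y'' := pullback.lift (ζ ≫ pullback.fst fA fA ≫ fA) b (by
      simp only [b, p₀, fA, Category.assoc, pullback.lift_fst_assoc]
      rw [pullback.condition (f := a') (g := g)])
    have hl₀ : l ≫ q₀ = ζ ≫ pullback.fst fA fA := by
      apply pullback.hom_ext
      · simp only [q₀, l, fA, Category.assoc, pullback.lift_fst]
      · simp only [q₀, l, b, p₀, Category.assoc, pullback.lift_snd, pullback.lift_snd_assoc, pullback.lift_fst]
    have hl₁ : l ≫ q₁ = ζ ≫ pullback.snd fA fA := by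
      apply pullback.hom_ext
      · simp only [q₁, l, fA, Category.assoc, pullback.lift_fst]
        rw [pullback.condition]
      · simp only [q₁, l, b, p₁, Category.assoc, pullback.lift_snd, pullback.lift_snd_assoc]
    have hmem : l (IsLocalRing.closedPoint Ω') ∈ q₀ ⁻¹' Dset := by
      show q₀ (l (IsLocalRing.closedPoint Ω')) ∈ Dset
      rw [← Scheme.Hom.comp_apply, hl₀, Scheme.Hom.comp_apply, hζ, hw]
      exact hz
    rw [hsame] at hmem
    replace hmem : q₁ (l (IsLocalRing.closedPoint Ω')) ∈ Dset := hmem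
    rwa [← Scheme.Hom.comp_apply, hl₁, Scheme.Hom.comp_apply, hζ, hw'] at hmem
  haveI : IsProper fA := MorphismProperty.pullback_fst _ _ inferInstance
  haveI : Surjective fA := MorphismProperty.pullback_fst _ _ inferInstance
  have hco : (fA '' Dset)ᶜ = fA '' Dsetᶜ := by
    ext p
    obtain ⟨z, rfl⟩ := fA.surjective p
    constructor
    · exact fun h => ⟨z, fun hz => h ⟨z, hz, rfl⟩, rfl⟩
    · rintro ⟨z', hz', he⟩ ⟨z₁, hz₁, he₁⟩
      exact hz' (hsat z₁ z' (he₁.trans he.symm) hz₁)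
  have hclopen : IsClopen (fA '' Dset) := by
    refine ⟨fA.isClosedMap _ hDclosed, ?_⟩
    rw [← isClosed_compl_iff, hco]
    exact fA.isClosedMap _ hDopen.isClosed_compl
  obtain ⟨s'⟩ : Nonempty S' := by
    obtain ⟨s⟩ : Nonempty S := inferInstance
    exact ⟨(g.surjective s).choose⟩
  obtain ⟨Ω', _, _, δ, -⟩ := Pi1X.exists_geometric_point s'
  let T := a Ω' δ _ rfl
  have hz : ∀ z : FEt.fiberObj ξ A,
      pullback.lift (f := a') (g := g) (T.hom.app A z).1 δ (T.hom.app A z).2 (IsLocalRing.closedPoint Ω') ∈ Dset ↔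
        z ∈ O := fun z => by
    refine (memb Ω' δ _ rfl (T.hom.app A z)).trans ?_
    rw [inv_hom_apply T A z]
  have hx : x ∈ O := ⟨1, one_mem _, rfl⟩
  haveI : ConnectedSpace A.left := hA
  have huniv := hclopen.eq_univ ⟨_, _, (hz x).2 hx, rfl⟩
  obtain ⟨z₁, hz₁, he⟩ := huniv.ge (Set.mem_univ
    (fA (pullback.lift (f := a') (g := g) (T.hom.app A y).1 δ (T.hom.app A y).2 (IsLocalRing.closedPoint Ω'))))
  exact (hz y).1 (hsat z₁ _ he hz₁)

end Groth.Agent.PiGen
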